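import Cfsg.Agent.H597.HT12.Five
import Cfsg.Agent.H337.HT.Cand
import Cfsg.Agent.H912.CrossList
import Cfsg.Agent.S0280
import Cfsg.Agent.S0813
import Cfsg.Agent.S0815
import Cfsg.Agent.ClassicalGeometry.PSL2Basic
import Cfsg.Agent.ClassicalGeometry.PSUAutBasic

/-!
# S3540, quasisimple rows: degree 12, `S = L2(25)` or `U3(4)`
-/

set_option autoImplicit false

universe u w

namespace Cfsg.Agent.H597.HT12

open Cfsg.Agent.H828.HT Cfsg.Agent.H337.HT

/-! ### Two commuting elements of order 5 -/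

theorem exists_ab {S X : Type*} [Group S] [Finite S] {r : ℕ} [hr : Fact r.Prime] (f : X → S)
    (hf : Function.Injective f) (hc : ∀ x y, f x * f y = f y * f x) (hp : ∀ x, f x ^ r = 1) (hX : r < Nat.card X) :
    ∃ a b : S, a * b = b * a ∧ a ^ r = 1 ∧ b ^ r = 1 ∧ a ≠ 1 ∧ b ∉ Subgroup.zpowers a := by
  have hX0 : Finite X := Finite.of_injective f hf
  have h2 := hr.out.two_le
  have h1 : Nontrivial X := Finite.one_lt_card_iff_nontrivial.1 (by omega)
  obtain ⟨x, y, hxy⟩ := h1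
  obtain ⟨z, hz⟩ : ∃ z, f z ≠ 1 := by
    by_contra hcon
    push Not at hcon
    exact hxy (hf ((hcon x).trans (hcon y).symm))
  by_contra hcon
  push Not at hcon
  have h3 : ∀ x, f x ∈ Subgroup.zpowers (f z) := fun x => hcon _ _ (hc z x) (hp z) (hp x) hz
  have h4 := Nat.card_le_card_of_injective (fun x => (⟨f x, h3 x⟩ : Subgroup.zpowers (f z)))
    (fun a b hab => hf (congrArg Subtype.val hab))
  rw [Nat.card_zpowers, orderOf_eq_prime (hp z) hz] at h4
  omega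

/-- transport -/
theorem exists_ab_congr {S T : Type*} [Group S] [Group T] (e : S ≃* T) {r : ℕ}
    (h : ∃ a b : T, a * b = b * a ∧ a ^ r = 1 ∧ b ^ r = 1 ∧ a ≠ 1 ∧ b ∉ Subgroup.zpowers a) :
    ∃ a b : S, a * b = b * a ∧ a ^ r = 1 ∧ b ^ r = 1 ∧ a ≠ 1 ∧ b ∉ Subgroup.zpowers a := by
  obtain ⟨a, b, hab, ha, hb, ha1, hba⟩ := h
  refine ⟨e.symm a, e.symm b, ?_, ?_, ?_, ?_, ?_⟩
  · rw [← map_mul, hab, map_mul]
  · rw [← map_pow, ha, map_one]
  · rw [← map_pow, hb, map_one]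
  · intro h0
    exact ha1 (e.symm.injective (h0.trans (map_one _).symm))
  · rintro ⟨n, hn⟩
    refine hba ⟨n, e.symm.injective ?_⟩
    change e.symm (a ^ n) = e.symm b
    rw [map_zpow]
    exact hn

section psl

variable {F : Type*} [Field F]

/-- `1 + t e₁₂` -/
def up (t : F) : Matrix.SpecialLinearGroup (Fin 2) F := ⟨!![1, t; 0, 1], by simp [Matrix.det_fin_two]⟩

theorem up_mul (s t : F) : up s * up t = up (s + t) := by
  apply Subtype.ext
  change (!![1, s; 0, 1] : Matrix (Fin 2) (Fin 2) F) * !![1, t; 0, 1] = !![1, s + t; 0, 1]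
  ext i j
  fin_cases i <;> fin_cases j <;> simp [Matrix.mul_apply, Fin.sum_univ_two, add_comm]

theorem up_pow (t : F) (n : ℕ) : up t ^ n = up (n * t) := by
  induction n with
  | zero =>
    rw [pow_zero, Nat.cast_zero, zero_mul]
    apply Subtype.ext
    ext i j
    fin_cases i <;> fin_cases j <;> simp [up]
  | succ n ih => rw [pow_succ, ih, up_mul, Nat.cast_succ]; congr 1; ring

theorem psl_ab [Fintype F] (hF : Fintype.card F = 25) :
    ∃ a b : Matrix.ProjectiveSpecialLinearGroup (Fin 2) F, a * b = b * a ∧ a ^ 5 = 1 ∧ b ^ 5 = 1 ∧ a ≠ 1 ∧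
      b ∉ Subgroup.zpowers a := by
  have hp5 : Fact (Nat.Prime 5) := ⟨by norm_num⟩
  have h5 : (5 : F) = 0 := by
    have h1 := FiniteField.cast_card_eq_zero F
    rw [hF] at h1
    have h2 : (5 : F) * 5 = 0 := by
      have : ((25 : ℕ) : F) = 5 * 5 := by norm_num
      rw [← this]; exact h1
    rcases mul_eq_zero.1 h2 with h | h <;> exact h
  refine exists_ab (fun t : F => (QuotientGroup.mk (up t) : Matrix.ProjectiveSpecialLinearGroup (Fin 2) F))
    ?_ ?_ ?_ ?_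
  · intro s t hst
    have h1 : (up s)⁻¹ * up t ∈ Subgroup.center (Matrix.SpecialLinearGroup (Fin 2) F) := QuotientGroup.eq.1 hst
    have h2 : (up s)⁻¹ * up t = up (t - s) := by
      rw [inv_mul_eq_iff_eq_mul, up_mul]; congr 1; ring
    rw [h2, Matrix.SpecialLinearGroup.mem_center_iff] at h1
    obtain ⟨c, -, hc⟩ := h1
    have h3 := congrFun (congrFun hc 0) 1
    simp [up, Matrix.scalar_apply] at h3
    exact (sub_eq_zero.1 h3.symm).symm
  · intro s t
    change (QuotientGroup.mk (up s * up t) : Matrix.ProjectiveSpecialLinearGroup (Fin 2) F) =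
      QuotientGroup.mk (up t * up s)
    rw [up_mul, up_mul, add_comm]
  · intro t
    change (QuotientGroup.mk (up t ^ 5) : Matrix.ProjectiveSpecialLinearGroup (Fin 2) F) = 1
    rw [up_pow]
    have : ((5 : ℕ) : F) = 0 := by exact_mod_cast h5
    rw [this, zero_mul]
    have h6 := up_pow (0 : F) 0
    rw [pow_zero, Nat.cast_zero, zero_mul] at h6
    rw [← h6]
    rfl
  · rw [Nat.card_eq_fintype_card, hF]; norm_num

end psl

section psu

variable {F : Type*} [Field F]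

/-- `diag(a, b, (ab)⁻¹)` -/
def dg (a b : Fˣ) : Matrix.SpecialLinearGroup (Fin 3) F :=
  ⟨Matrix.diagonal ![(a : F), (b : F), ((a * b)⁻¹ : Fˣ)], by
    rw [Matrix.det_diagonal, Fin.prod_univ_three]
    simp only [Matrix.cons_val_zero, Matrix.cons_val_one, Matrix.cons_val]
    rw [← Units.val_mul, Units.mul_inv]⟩

theorem dg_mem {a b : Fˣ} (ha : a ^ 5 = 1) (hb : b ^ 5 = 1) : dg a b ∈ Cfsg.SU 3 F 4 := by
  intro u v
  change Cfsg.hermForm 3 F 4 (Matrix.mulVec (Matrix.diagonal _) u) (Matrix.mulVec (Matrix.diagonal _) v) = _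
  unfold Cfsg.hermForm
  have ha' : (a : F) ^ 5 = 1 := by rw [← Units.val_pow_eq_pow_val, ha, Units.val_one]
  have hb' : (b : F) ^ 5 = 1 := by rw [← Units.val_pow_eq_pow_val, hb, Units.val_one]
  have hc' : (((a * b)⁻¹ : Fˣ) : F) ^ 5 = 1 := by
    rw [← Units.val_pow_eq_pow_val, inv_pow, mul_pow, ha, hb, mul_one, inv_one, Units.val_one]
  rw [Fin.sum_univ_three, Fin.sum_univ_three, Matrix.mulVec_diagonal, Matrix.mulVec_diagonal,
    Matrix.mulVec_diagonal, Matrix.mulVec_diagonal, Matrix.mulVec_diagonal, Matrix.mulVec_diagonal]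
  simp only [Matrix.cons_val_zero, Matrix.cons_val_one, Matrix.cons_val]
  linear_combination (u 0 * v 0 ^ 4) * ha' + (u 1 * v 1 ^ 4) * hb' + (u 2 * v 2 ^ 4) * hc'

theorem dg_mul (a b c d : Fˣ) : dg a b * dg c d = dg (a * c) (b * d) := by
  apply Subtype.ext
  change Matrix.diagonal _ * Matrix.diagonal _ = Matrix.diagonal _
  rw [Matrix.diagonal_mul_diagonal]
  congr 1
  funext i
  fin_cases i
  · simp
  · simp
  · simp [mul_comm, mul_left_comm, mul_assoc]

theorem psu_ab [Fintype F] (hF : Fintype.card F = 4 ^ 2) :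
    ∃ a b : Cfsg.PSU 3 F 4, a * b = b * a ∧ a ^ 5 = 1 ∧ b ^ 5 = 1 ∧ a ≠ 1 ∧ b ∉ Subgroup.zpowers a := by
  have hp5 : Fact (Nat.Prime 5) := ⟨by norm_num⟩
  classical
  -- an element of order 5
  obtain ⟨ζ, hζ⟩ : ∃ ζ : Fˣ, orderOf ζ = 5 := by
    refine exists_prime_orderOf_dvd_card' 5 ?_
    rw [Nat.card_units, Nat.card_eq_fintype_card, hF]
    norm_num
  have hpow : ∀ x : Subgroup.zpowers ζ, (x : Fˣ) ^ 5 = 1 := by
    rintro ⟨_, n, rfl⟩
    change (ζ ^ n) ^ 5 = 1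
    rw [← zpow_natCast, zpow_comm, zpow_natCast, ← hζ, pow_orderOf_eq_one, one_zpow]
  let g : Subgroup.zpowers ζ × Subgroup.zpowers ζ → Cfsg.SU 3 F 4 := fun x =>
    ⟨dg x.1 x.2, dg_mem (hpow _) (hpow _)⟩
  have hg : ∀ x y, g x * g y = g (x * y) := fun x y => Subtype.ext (dg_mul _ _ _ _)
  have hg5 : ∀ x, g x ^ 5 = 1 := by
    have h0 : g 1 = 1 := by
      have h1 := hg 1 1
      rw [mul_one] at h1
      exact mul_eq_left.1 h1
    intro x
    have h1 : ∀ n : ℕ, g x ^ n = g (x ^ n) := by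
      intro n
      induction n with
      | zero => rw [pow_zero, pow_zero, h0]
      | succ n ih => rw [pow_succ, ih, hg, pow_succ]
    rw [h1]
    have h2 : x ^ 5 = 1 := Prod.ext (Subtype.ext (hpow _)) (Subtype.ext (hpow _))
    rw [h2, h0]
  refine exists_ab (fun x => (QuotientGroup.mk (g x) : Cfsg.PSU 3 F 4)) ?_ ?_ ?_ ?_
  · intro x y hxy
    have h1 : (g x)⁻¹ * g y ∈ Subgroup.center (Cfsg.SU 3 F 4) := QuotientGroup.eq.1 hxy
    have h2 : (g x)⁻¹ * g y = g (x⁻¹ * y) := by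
      rw [inv_mul_eq_iff_eq_mul, hg, mul_inv_cancel_left]
    rw [h2] at h1
    set z := x⁻¹ * y with hz
    obtain ⟨c, hc0, -, hc⟩ := ClassicalGeometry.PSUAutBasic.exists_scalar_of_mem_center hF le_rfl h1
    have h3 : ∀ i : Fin 3, (![((z.1 : Fˣ) : F), ((z.2 : Fˣ) : F), ((((z.1 : Fˣ) * (z.2 : Fˣ))⁻¹ : Fˣ) : F)] : Fin 3 → F) i = c := by
      intro i
      have h4 := congrFun (hc (Pi.single i 1)) i
      change Matrix.mulVec (Matrix.diagonal _) (Pi.single i 1) i = _ at h4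
      rw [Matrix.mulVec_diagonal, Pi.smul_apply, Pi.single_eq_same, mul_one, smul_eq_mul, mul_one] at h4
      exact h4
    have h4 := h3 0
    have h5 := h3 1
    have h6 := h3 2
    simp only [Matrix.cons_val_zero, Matrix.cons_val_one, Matrix.cons_val] at h4 h5 h6
    have hc' : ∃ d : Fˣ, (d : F) = c := ⟨Units.mk0 c hc0, rfl⟩
    obtain ⟨d, rfl⟩ := hc'
    have e4 : (z.1 : Fˣ) = d := Units.ext h4
    have e5 : (z.2 : Fˣ) = d := Units.ext h5
    have e6 : ((z.1 : Fˣ) * (z.2 : Fˣ))⁻¹ = d := Units.ext h6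
    have e7 : d ^ 5 = 1 := e4 ▸ hpow z.1
    have e8 : d ^ 3 = 1 := by
      rw [e4, e5, inv_eq_iff_mul_eq_one] at e6
      rw [pow_succ, pow_two]
      exact e6
    have e9 : d = 1 := by
      calc d = (d ^ 3) ^ 2 * (d ^ 5)⁻¹ := by group
        _ = 1 := by rw [e8, e7]; simp
    have e10 : z = 1 := Prod.ext (Subtype.ext (e4.trans e9)) (Subtype.ext (e5.trans e9))
    rw [hz, inv_mul_eq_one] at e10
    exact e10
  · intro x y
    change (QuotientGroup.mk (g x * g y) : Cfsg.PSU 3 F 4) = QuotientGroup.mk (g y * g x)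
    rw [hg, hg, mul_comm]
  · intro x
    change (QuotientGroup.mk (g x ^ 5) : Cfsg.PSU 3 F 4) = 1
    rw [hg5]
    rfl
  · rw [Nat.card_prod, Nat.card_zpowers, hζ]; norm_num

end psu

/-! ### Orders -/

theorem card_psl {F : Type*} [Field F] [Fintype F] (hF : Fintype.card F = 25) :
    Nat.card (Matrix.ProjectiveSpecialLinearGroup (Fin 2) F) = 7800 := by
  have h1 := ClassicalGeometry.PSL2Basic.card_PSL2_odd (F := F) (by rw [hF]; decide)
  rw [hF] at h1
  omega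

theorem card_aut_psl {F : Type*} [Field F] [Fintype F] (hF : Fintype.card F = 25) :
    Nat.card (MulAut (Matrix.ProjectiveSpecialLinearGroup (Fin 2) F)) = 31200 := by
  have hp5 : Fact (Nat.Prime 5) := ⟨by norm_num⟩
  have h1 := S0813.result (F := F) 5 2 (by norm_num) (by rw [hF]; norm_num) 2 le_rfl (fun _ => by norm_num)
  rw [h1, if_pos rfl, ClassicalGeometry.PSL2Basic.card_PGL2, hF]
  norm_num

theorem card_psu {F : Type*} [Field F] [Fintype F] (hF : Fintype.card F = 4 ^ 2) :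
    Nat.card (Cfsg.PSU 3 F 4) = 62400 := by
  have h1 := S0280.result (F := F) hF 3 (by norm_num)
  generalize Nat.card (Cfsg.PSU 3 F 4) = N at h1 ⊢
  norm_num [Finset.prod_range_succ, Nat.even_iff] at h1
  omega

theorem card_aut_psu {F : Type*} [Field F] [Fintype F] (hF : Fintype.card F = 4 ^ 2) :
    Nat.card (MulAut (Cfsg.PSU 3 F 4)) = 249600 := by
  have hp2 : Fact (Nat.Prime 2) := ⟨Nat.prime_two⟩
  have h1 := S0815.result (F := F) 2 2 (by norm_num) (q := 4) (by norm_num) hF 3 le_rfl (by norm_num)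
  rw [h1, card_psu hF]
  norm_num

/-! ### The numbers -/

/-- `q = 7`: `m ∣ gcd (6 A / 5, 7 ^ 12 - 1)` -/
theorem not_cand_seven {A : ℕ} (hA : A = 31200 ∨ A = 249600) {o : ℕ} : ¬ Cand 5 o A 12 7 := by
  rintro ⟨m, h, ⟨k, rfl⟩, h2, hm, -, hd, hle⟩
  have h1 := Cand.le_two h2 hle
  have h3 : m ∣ Nat.gcd (6 * 249600 / 5) (7 ^ 12 - 1) := by
    refine Nat.dvd_gcd ?_ hm
    have h4 : 5 * (m * k) ∣ 5 * (6 * 249600 / 5) := by
      have h5 : m * (5 * k) ∣ 6 * 249600 := by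
        refine hd.trans ?_
        rcases hA with rfl | rfl <;> decide
      have h6 : 5 * (6 * 249600 / 5) = 6 * 249600 := by norm_num
      rw [h6]
      rwa [mul_left_comm] at h5
    exact (Dvd.intro _ rfl).trans (Nat.dvd_of_mul_dvd_mul_left (by norm_num) h4)
  have h7 : Nat.gcd (6 * 249600 / 5) (7 ^ 12 - 1) = 18720 := by decide
  rw [h7] at h3
  have h8 := Nat.le_of_dvd (by norm_num) h3
  have h9 : m ^ 2 ≤ 18720 ^ 2 := Nat.pow_le_pow_left h8 2
  norm_num at h1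
  omega

variable {p : ℕ} [Fact p.Prime] {K : Type w} [Field K] {V : Type u} [AddCommGroup V] [Module (ZMod p) V] [Finite V]
    [Module K V] {G L : Subgroup (V ≃ₗ[ZMod p] V)} {h : ℕ}

/-- **degree 12**, `S = L2(25)` or `U3(4)` -/
theorem kill_twelve (H : QS p K V G L h) (hn : Module.finrank K V = 12)
    (hS : H912.Bd.IsL 2 25 (L ⧸ Subgroup.center L) ∨ H912.Bd.IsU 3 4 (L ⧸ Subgroup.center L)) : False := by
  have hp5 : Fact (Nat.Prime 5) := ⟨by norm_num⟩
  have hK2 := H.two_le_card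
  have hco := H.coprime
  have key : ∃ o A : ℕ, Nat.card (L ⧸ Subgroup.center L) = o ∧ Nat.card (MulAut (L ⧸ Subgroup.center L)) = A ∧
      (∃ a b : L ⧸ Subgroup.center L, a * b = b * a ∧ a ^ 5 = 1 ∧ b ^ 5 = 1 ∧ a ≠ 1 ∧ b ∉ Subgroup.zpowers a) ∧
      ((o = 7800 ∧ A = 31200) ∨ (o = 62400 ∧ A = 249600)) := by
    rcases hS with ⟨F, _, _, hF, ⟨e⟩⟩ | ⟨F, _, _, hF, ⟨e⟩⟩
    · refine ⟨7800, 31200, ?_, ?_, exists_ab_congr e (psl_ab hF), Or.inl ⟨rfl, rfl⟩⟩
      · rw [Nat.card_congr e.toEquiv, card_psl hF]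
      · rw [Nat.card_congr (MulAut.congr e).toEquiv, card_aut_psl hF]
    · refine ⟨62400, 249600, ?_, ?_, exists_ab_congr e (psu_ab hF), Or.inr ⟨rfl, rfl⟩⟩
      · rw [Nat.card_congr e.toEquiv, card_psu hF]
      · rw [Nat.card_congr (MulAut.congr e).toEquiv, card_aut_psu hF]
  obtain ⟨o, A, ho, hA, ⟨a, b, hab, ha, hb, ha1, hba⟩, hoA⟩ := key
  have h5 : 5 ∣ h := dvd_of_rank_two H (by norm_num) hab ha hb ha1 hba
  have hc := H.cand h5
  rw [ho, hA, hn] at hc
  rw [ho] at hco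
  have hq7 : 7 ≤ Nat.card K := by
    refine le_of_coprime (o := o) ?_ hK2 hco
    rcases hoA with ⟨rfl, rfl⟩ | ⟨rfl, rfl⟩ <;> decide
  rcases hq7.eq_or_lt with h7 | h8
  · rw [← h7] at hc
    exact not_cand_seven (by rcases hoA with ⟨-, h⟩ | ⟨-, h⟩ <;> simp [h]) hc
  · rcases hoA with ⟨rfl, rfl⟩ | ⟨rfl, rfl⟩
    · exact loopQ_spec (by norm_num) (by norm_num) 60 8 (by norm_num) (by decide) _ h8 hco hc.mono
    · exact loopQ_spec (by norm_num) (by norm_num) 60 8 (by norm_num) (by decide) _ h8 hco hc.mono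

end Cfsg.Agent.H597.HT12
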