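import Cfsg.Agent.H337.HT.QS
import Cfsg.Agent.Solvable.UniqueOrderP

/-!
# S3540, quasisimple rows: rank two forces `r ∣ h`

If `L / Z(L)` contains commuting elements `a`, `b` of order `r` (an odd prime) with `b ∉ ⟨a⟩`, then `r ∣ h`.
-/

set_option autoImplicit false

universe u w

namespace Cfsg.Agent.H597.HT12

open Cfsg.Agent.H828.HT Cfsg.Agent.H337.HT

/-- commuting `x`, `y`, `y ∉ ⟨x⟩`, of order `r`; `r v ≠ 0`: one of `y`, `x y ^ j` has a fixed vector `≠ 0` -/
theorem exists_fixed_vec {p : ℕ} [Fact p.Prime] {V : Type u} [AddCommGroup V] [Module (ZMod p) V]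
    {r : ℕ} (hr : r.Prime) {x y : V ≃ₗ[ZMod p] V} (hxy : x * y = y * x) (hx : x ^ r = 1) (hy : y ^ r = 1)
    {v : V} (hv : r • v ≠ 0) :
    (∃ w : V, w ≠ 0 ∧ y w = w) ∨ ∃ (j : ℕ) (w : V), w ≠ 0 ∧ (x * y ^ j) w = w := by
  by_contra hcon
  push Not at hcon
  obtain ⟨h1, h2⟩ := hcon
  have hc : Commute x y := hxy
  -- the trace of an element of order dividing `r` without fixed vectors is zero
  have htr : ∀ g : V ≃ₗ[ZMod p] V, g ^ r = 1 → (∀ w : V, w ≠ 0 → g w ≠ w) → ∀ w : V,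
      ∑ i ∈ Finset.range r, (g ^ i) w = 0 := by
    intro g hg hf w
    by_contra hne
    refine hf _ hne ?_
    rw [map_sum]
    have e1 : ∀ i, g ((g ^ i) w) = (g ^ (i + 1)) w := by
      intro i
      rw [pow_succ']; rfl
    simp_rw [e1]
    have h3 := Finset.sum_range_succ' (fun i => (g ^ i) w) r
    rw [Finset.sum_range_succ, hg] at h3
    simp only [pow_zero] at h3
    exact (add_right_cancel h3).symm
  -- sum over the lines
  have h3 : ∑ j ∈ Finset.range r, ∑ i ∈ Finset.range r, ((x * y ^ j) ^ i) v = 0 := by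
    refine Finset.sum_eq_zero fun j _ => htr _ ?_ (fun w hw => h2 j w hw) v
    rw [(hc.pow_right j).mul_pow, hx, ← pow_mul, mul_comm j r, pow_mul, hy, one_pow, one_mul]
  rw [Finset.sum_comm] at h3
  have h4 : ∀ i ∈ Finset.range r, i ≠ 0 → ∑ j ∈ Finset.range r, ((x * y ^ j) ^ i) v = 0 := by
    intro i hi hi0
    have e1 : ∀ j, ((x * y ^ j) ^ i) v = (x ^ i) (((y ^ i) ^ j) v) := by
      intro j
      rw [(hc.pow_right j).mul_pow, ← pow_mul, mul_comm j i, pow_mul]
      rfl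
    simp_rw [e1]
    rw [← map_sum, htr (y ^ i), map_zero]
    · rw [← pow_mul, mul_comm i r, pow_mul, hy, one_pow]
    · intro w hw hyw
      refine h1 w hw ?_
      -- `y` is a power of `y ^ i`
      have hcop : Nat.Coprime i r := by
        rw [Nat.coprime_comm, hr.coprime_iff_not_dvd]
        intro hd
        have := Nat.le_of_dvd (Nat.pos_of_ne_zero hi0) hd
        have := Finset.mem_range.1 hi
        omega
      obtain ⟨k, -, hk⟩ := Nat.exists_mul_mod_eq_one_of_coprime hcop hr.one_lt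
      have h5 : ∀ n : ℕ, ((y ^ i) ^ n) w = w := by
        intro n
        induction n with
        | zero => rfl
        | succ n ih => rw [pow_succ]; change ((y ^ i) ^ n) ((y ^ i) w) = w; rw [hyw, ih]
      have h6 : y = (y ^ i) ^ k := by
        rw [← pow_mul, ← Nat.div_add_mod (i * k) r, pow_add, pow_mul, hy, one_pow, one_mul, hk, pow_one]
      conv_lhs => rw [h6]
      exact h5 k
  rw [Finset.sum_eq_single_of_mem 0 (Finset.mem_range.2 hr.pos) h4] at h3
  simp only [pow_zero] at h3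
  rw [Finset.sum_const, Finset.card_range] at h3
  exact hv h3

variable {p : ℕ} [Fact p.Prime] {V : Type u} [AddCommGroup V] [Module (ZMod p) V] [Finite V]
  {G : Subgroup (V ≃ₗ[ZMod p] V)} {h : ℕ}

/-- commuting `x`, `y ∈ G` of order `r`, `y ∉ ⟨x⟩`: `r ∣ h` -/
theorem dvd_of_pair (hG : ¬ p ∣ Nat.card G) (hh : Half G h) {v : V} (hv : v ≠ 0) {r : ℕ} (hr : r.Prime)
    {x y : G} (hxy : x * y = y * x) (hx : x ^ r = 1) (hy : y ^ r = 1) (hx1 : x ≠ 1)
    (hyx : y ∉ Subgroup.zpowers x) : r ∣ h := by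
  have := Fact.mk hr
  have hy1 : y ≠ 1 := by rintro rfl; exact hyx (one_mem _)
  have hoy : orderOf y = r := orderOf_eq_prime hy hy1
  have hox : orderOf x = r := orderOf_eq_prime hx hx1
  have hrp : r ≠ p := by
    intro hrp
    have h0 := orderOf_dvd_natCard x
    rw [hox, hrp] at h0
    exact hG h0
  have hrv : r • v ≠ 0 := by
    intro h0
    have h1 : ((r : ℕ) : ZMod p) • v = 0 := by rw [Nat.cast_smul_eq_nsmul]; exact h0
    rcases smul_eq_zero.1 h1 with h2 | h2
    · rw [ZMod.natCast_eq_zero_iff] at h2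
      exact hrp ((Nat.prime_dvd_prime_iff_eq Fact.out hr).1 h2).symm
    · exact hv h2
  have hxy' : (x : V ≃ₗ[ZMod p] V) * y = y * x := congrArg Subtype.val hxy
  have hx' : (x : V ≃ₗ[ZMod p] V) ^ r = 1 := congrArg Subtype.val hx
  have hy' : (y : V ≃ₗ[ZMod p] V) ^ r = 1 := congrArg Subtype.val hy
  rcases exists_fixed_vec hr hxy' hx' hy' hrv with ⟨w, hw, hyw⟩ | ⟨j, w, hw, hjw⟩
  · exact dvd_h hh hoy hw hyw
  · have hc : Commute x y := hxy
    refine dvd_h hh (g := x * y ^ j) (orderOf_eq_prime ?_ ?_) hw hjw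
    · rw [(hc.pow_right j).mul_pow, hx, ← pow_mul, mul_comm j r, pow_mul, hy, one_pow, one_mul]
    · intro h1
      -- `x = (y ^ j)⁻¹ ∈ ⟨y⟩`, hence `⟨x⟩ = ⟨y⟩`
      have h2 : x ∈ Subgroup.zpowers y := by
        rw [eq_inv_of_mul_eq_one_left h1]
        exact inv_mem (pow_mem (Subgroup.mem_zpowers y) j)
      have h3 : Subgroup.zpowers x ≤ Subgroup.zpowers y := (Subgroup.zpowers_le).2 h2
      have h4 : Subgroup.zpowers x = Subgroup.zpowers y :=
        Subgroup.eq_of_le_of_card_ge h3 (by rw [Nat.card_zpowers, Nat.card_zpowers, hox, hoy])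
      exact hyx (h4 ▸ Subgroup.mem_zpowers y)

/-- a non-cyclic `r`-group (`r` odd) contains commuting `x`, `y` of order `r`, `y ∉ ⟨x⟩` -/
theorem exists_pair {Q : Type*} [Group Q] [Finite Q] {r : ℕ} [hr : Fact r.Prime] (h2 : r ≠ 2) (hQ : IsPGroup r Q)
    (hc : ¬ IsCyclic Q) : ∃ x y : Q, x * y = y * x ∧ x ^ r = 1 ∧ y ^ r = 1 ∧ x ≠ 1 ∧ y ∉ Subgroup.zpowers x := by
  have h1 : ¬ Solvable.UniqueOrderP.UniqueP r Q := fun hU =>
    hc (Solvable.UniqueOrderP.isCyclic_of_uniqueP h2 hQ hU)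
  rw [Solvable.UniqueOrderP.uniqueP_def] at h1
  push Not at h1
  obtain ⟨x, y, hx1, hx, hy, hyx⟩ := h1
  have hnt : Nontrivial Q := ⟨x, 1, hx1⟩
  have hcn : Nontrivial (Subgroup.center Q) := hQ.center_nontrivial
  -- a central element of order `r`
  have hcp : IsPGroup r (Subgroup.center Q) := hQ.to_subgroup _
  have hd : r ∣ Nat.card (Subgroup.center Q) := by
    obtain ⟨n, hn⟩ := (IsPGroup.iff_card).1 hcp
    rw [hn]
    refine dvd_pow_self r ?_
    rintro rfl
    rw [pow_zero] at hn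
    have := Finite.one_lt_card (α := Subgroup.center Q)
    omega
  obtain ⟨z, hz⟩ := exists_prime_orderOf_dvd_card' r hd
  have hz1 : (z : Q) ≠ 1 := by
    intro h3
    have h4 : z = 1 := Subtype.ext h3
    rw [h4, orderOf_one] at hz
    exact hr.out.one_lt.ne hz
  have hzr : (z : Q) ^ r = 1 := by
    have := pow_orderOf_eq_one z
    rw [hz] at this
    exact congrArg Subtype.val this
  have hzc : ∀ g : Q, (z : Q) * g = g * z := fun g => (Subgroup.mem_center_iff.1 z.2 g).symm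
  by_cases hxz : x ∈ Subgroup.zpowers (z : Q)
  · refine ⟨z, y, hzc y, hzr, hy, hz1, fun hyz => hyx ?_⟩
    have h4 : Subgroup.zpowers x = Subgroup.zpowers (z : Q) :=
      Subgroup.eq_of_le_of_card_ge (Subgroup.zpowers_le.2 hxz) (by
        rw [Nat.card_zpowers, Nat.card_zpowers, orderOf_eq_prime hzr hz1, orderOf_eq_prime hx hx1])
    rw [h4]
    exact hyz
  · exact ⟨z, x, hzc x, hzr, hx, hz1, hxz⟩

/-- in a cyclic group, elements of prime order `r` generate the same subgroup -/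
theorem mem_zpowers_of_cyclic {C : Type*} [Group C] [Finite C] [IsCyclic C] {r : ℕ} [hr : Fact r.Prime] {a b : C}
    (ha : a ^ r = 1) (ha1 : a ≠ 1) (hb : b ^ r = 1) : b ∈ Subgroup.zpowers a := by
  classical
  have := Fintype.ofFinite C
  have h1 := IsCyclic.card_pow_eq_one_le (α := C) hr.out.pos
  have h2 : (Subgroup.zpowers a : Set C).toFinset ⊆ Finset.univ.filter (fun x => x ^ r = 1) := by
    intro x hx
    rw [Set.mem_toFinset] at hx
    obtain ⟨n, rfl⟩ := hx
    refine Finset.mem_filter.2 ⟨Finset.mem_univ _, ?_⟩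
    change (a ^ n) ^ r = 1
    rw [← zpow_natCast, zpow_comm, zpow_natCast, ha, one_zpow]
  have h3 : (Subgroup.zpowers a : Set C).toFinset.card = r := by
    rw [Set.toFinset_card, ← Nat.card_eq_fintype_card]
    exact (Nat.card_zpowers a).trans (orderOf_eq_prime ha ha1)
  have h4 := Finset.eq_of_subset_of_card_le h2 (by rw [h3]; exact h1)
  have h5 : b ∈ Finset.univ.filter (fun x : C => x ^ r = 1) := Finset.mem_filter.2 ⟨Finset.mem_univ _, hb⟩
  rw [← h4, Set.mem_toFinset] at h5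
  exact h5

/-- a Sylow `r`-subgroup of `L` is not cyclic if a quotient of `L` contains commuting `a`, `b` of order `r` with
`b ∉ ⟨a⟩` -/
theorem exists_not_cyclic {L S : Type*} [Group L] [Finite L] [Group S] (f : L →* S) (hf : Function.Surjective f)
    {r : ℕ} [hr : Fact r.Prime] {a b : S} (hab : a * b = b * a) (ha : a ^ r = 1) (hb : b ^ r = 1) (ha1 : a ≠ 1)
    (hba : b ∉ Subgroup.zpowers a) : ∃ Q : Sylow r L, ¬ IsCyclic Q := by
  have : Finite S := Finite.of_surjective f hf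
  -- `⟨a, b⟩` is an `r`-group
  let g : Subgroup.zpowers a × Subgroup.zpowers b →* S :=
    MonoidHom.noncommCoprod (Subgroup.zpowers a).subtype (Subgroup.zpowers b).subtype (by
      rintro ⟨_, m, rfl⟩ ⟨_, n, rfl⟩
      exact (Commute.zpow_zpow hab m n))
  have hab1 : IsPGroup r (Subgroup.zpowers a × Subgroup.zpowers b) := by
    rintro ⟨⟨_, m, rfl⟩, ⟨_, n, rfl⟩⟩
    refine ⟨1, ?_⟩
    ext
    · change (a ^ m) ^ r ^ 1 = 1
      rw [pow_one, ← zpow_natCast, zpow_comm, zpow_natCast, ha, one_zpow]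
    · change (b ^ n) ^ r ^ 1 = 1
      rw [pow_one, ← zpow_natCast, zpow_comm, zpow_natCast, hb, one_zpow]
  have hg : IsPGroup r g.range := hab1.of_surjective g.rangeRestrict g.rangeRestrict_surjective
  obtain ⟨P, hP⟩ := hg.exists_le_sylow
  obtain ⟨Q, rfl⟩ := Sylow.mapSurjective_surjective hf r P
  refine ⟨Q, fun hQ => hba ?_⟩
  have haP : a ∈ (Q.mapSurjective hf : Subgroup S) := hP ⟨(⟨a, Subgroup.mem_zpowers a⟩, 1), by simp [g]⟩
  have hbP : b ∈ (Q.mapSurjective hf : Subgroup S) := hP ⟨(1, ⟨b, Subgroup.mem_zpowers b⟩), by simp [g]⟩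
  have hcyc : IsCyclic (Q.mapSurjective hf : Subgroup S) := by
    rw [Sylow.coe_mapSurjective]
    exact isCyclic_of_surjective (f.subgroupMap (Q : Subgroup L)) (f.subgroupMap_surjective _)
  -- in a cyclic group, elements of order `r` generate the same subgroup
  set C : Subgroup S := (Q.mapSurjective hf : Subgroup S)
  have h6 : (⟨b, hbP⟩ : C) ∈ Subgroup.zpowers (⟨a, haP⟩ : C) :=
    mem_zpowers_of_cyclic (r := r) (Subtype.ext ha) (fun h0 => ha1 (congrArg Subtype.val h0)) (Subtype.ext hb)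
  obtain ⟨n, hn⟩ := h6
  exact ⟨n, congrArg Subtype.val hn⟩

variable {K : Type w} [Field K] [Module K V] {L : Subgroup (V ≃ₗ[ZMod p] V)}

/-- **rank two**: `L / Z(L)` contains commuting `a`, `b` of order `r`, `b ∉ ⟨a⟩`, `r` odd: `r ∣ h` -/
theorem dvd_of_rank_two (H : QS p K V G L h) {r : ℕ} [hr : Fact r.Prime] (h2 : r ≠ 2)
    {a b : L ⧸ Subgroup.center L} (hab : a * b = b * a) (ha : a ^ r = 1) (hb : b ^ r = 1) (ha1 : a ≠ 1)
    (hba : b ∉ Subgroup.zpowers a) : r ∣ h := by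
  obtain ⟨Q, hQ⟩ := exists_not_cyclic (QuotientGroup.mk' (Subgroup.center L)) (QuotientGroup.mk'_surjective _)
    hab ha hb ha1 hba
  obtain ⟨x, y, hxy, hx, hy, hx1, hyx⟩ := exists_pair h2 Q.isPGroup' hQ
  obtain ⟨l, hl, m, hm, hne⟩ := H.nonab
  obtain ⟨v, hv⟩ : ∃ v : V, v ≠ 0 := by
    by_contra hcon
    push Not at hcon
    exact hne (LinearEquiv.ext fun v => by rw [hcon ((l * m) v), hcon ((m * l) v)])
  -- the embedding `Q → G`
  let f : Q →* G := (Subgroup.inclusion H.le).comp (Q : Subgroup L).subtype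
  have hf : Function.Injective f := (Subgroup.inclusion_injective H.le).comp Subtype.val_injective
  refine dvd_of_pair H.cop H.half hv hr.out (x := f x) (y := f y) ?_ ?_ ?_ ?_ ?_
  · rw [← map_mul, hxy, map_mul]
  · rw [← map_pow, hx, map_one]
  · rw [← map_pow, hy, map_one]
  · intro h3; exact hx1 (hf (h3.trans (map_one f).symm))
  · rintro ⟨n, hn⟩
    refine hyx ⟨n, hf ?_⟩
    change f (x ^ n) = f y
    rw [map_zpow]
    exact hn

end Cfsg.Agent.H597.HT12
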